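import Mathlib
import Cfsg.Prelude.Def_Classical

set_option autoImplicit false

/-!
Helper lemmas (helper48): transporting isometry groups along a ring isomorphism of the base
field, and from `ZMod 2` to any field with two elements.
-/

namespace Cfsg.Agent.H48

/-- A ring isomorphism of fields compatible with two coordinate forms induces an injective
homomorphism of their isometry groups. -/
theorem exists_hom_isometryGroup_of_ringEquiv {F F' : Type*} [Field F] [Field F'] {ι : Type}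
    [Fintype ι] [DecidableEq ι] (σ : F ≃+* F') (Q : (ι → F) → F) (Q' : (ι → F') → F')
    (hQ : ∀ v : ι → F, Q' (fun i => σ (v i)) = σ (Q v)) :
    ∃ τ : ↥(Cfsg.isometryGroup F Q) →* ↥(Cfsg.isometryGroup F' Q'), Function.Injective τ := by
  classical
  let μ : (Matrix ι ι F)ˣ →* (Matrix ι ι F')ˣ :=
    Units.map ((σ : F →+* F').mapMatrix : Matrix ι ι F →+* Matrix ι ι F').toMonoidHom
  have hμ : ∀ g : (Matrix ι ι F)ˣ, ((μ g : (Matrix ι ι F')ˣ) : Matrix ι ι F') =
      (g : Matrix ι ι F).map (σ : F →+* F') := fun g => rfl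
  have hmem : ∀ g : ↥(Cfsg.isometryGroup F Q), μ g ∈ Cfsg.isometryGroup F' Q' := by
    intro g u' v'
    show Q' (Matrix.mulVec ((μ g : (Matrix ι ι F')ˣ) : Matrix ι ι F') u') = Q' u'
    have hg : ∀ u : ι → F, Q (Matrix.mulVec ((g : (Matrix ι ι F)ˣ) : Matrix ι ι F) u) = Q u :=
      fun u => g.2 u u
    have hu' : u' = fun i => σ (σ.symm (u' i)) := by
      funext i
      rw [RingEquiv.apply_symm_apply]
    have h1 : Matrix.mulVec ((μ g : (Matrix ι ι F')ˣ) : Matrix ι ι F') u' =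
        fun i => σ (Matrix.mulVec ((g : (Matrix ι ι F)ˣ) : Matrix ι ι F)
          (fun i => σ.symm (u' i)) i) := by
      funext i
      rw [hμ]
      conv_lhs => rw [hu']
      exact (RingHom.map_mulVec (σ : F →+* F') _ _ i).symm
    rw [h1, hQ, hg, ← hQ, ← hu']
  refine ⟨(μ.comp (Subgroup.subtype _)).codRestrict _ hmem, ?_⟩
  intro a b hab
  have h1 : ((μ a : (Matrix ι ι F')ˣ) : Matrix ι ι F') = ((μ b : (Matrix ι ι F')ˣ) : Matrix ι ι F') := by
    have h0 := congrArg (fun x : ↥(Cfsg.isometryGroup F' Q') =>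
      (((x : (Matrix ι ι F')ˣ)) : Matrix ι ι F')) hab
    exact h0
  rw [hμ, hμ] at h1
  apply Subtype.ext
  apply Units.ext
  exact Matrix.map_injective σ.injective h1

theorem quadFormPlus_map {F F' : Type*} [Field F] [Field F'] (σ : F ≃+* F') (m : ℕ)
    (v : Fin m ⊕ Fin m → F) :
    Cfsg.quadFormPlus m F' (fun i => σ (v i)) = σ (Cfsg.quadFormPlus m F v) := by
  unfold Cfsg.quadFormPlus
  rw [map_sum]
  refine Finset.sum_congr rfl fun i _ => ?_
  rw [map_mul]

theorem quadFormMinus_map {F F' : Type*} [Field F] [Field F'] (σ : F ≃+* F') (m : ℕ)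
    (v : (Fin m ⊕ Fin m) ⊕ Fin 2 → F) :
    Cfsg.quadFormMinus m F' 1 1 (fun i => σ (v i)) = σ (Cfsg.quadFormMinus m F 1 1 v) := by
  unfold Cfsg.quadFormMinus
  rw [map_add, map_sum, map_add, map_add, map_mul, map_mul, map_mul, map_pow, map_pow, map_one]
  congr 1
  refine Finset.sum_congr rfl fun i _ => ?_
  rw [map_mul]

/-- Over a field with two elements the binary form `z₁² + z₁ z₂ + z₂²` is anisotropic. -/
theorem anisotropic_of_card_two {F : Type*} [Field F] [Fintype F] (hF : Fintype.card F = 2)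
    (z₁ z₂ : F) (h : z₁ ^ 2 + 1 * z₁ * z₂ + 1 * z₂ ^ 2 = 0) : z₁ = 0 ∧ z₂ = 0 := by
  let σ : ZMod 2 ≃+* F := ZMod.ringEquivOfPrime F Nat.prime_two hF
  have h0 : ∀ a b : ZMod 2, a ^ 2 + 1 * a * b + 1 * b ^ 2 = 0 → a = 0 ∧ b = 0 := by decide
  have h1 : σ ((σ.symm z₁) ^ 2 + 1 * (σ.symm z₁) * (σ.symm z₂) + 1 * (σ.symm z₂) ^ 2) = 0 := by
    rw [map_add, map_add, map_mul, map_mul, map_mul, map_pow, map_pow, map_one,
      RingEquiv.apply_symm_apply, RingEquiv.apply_symm_apply]
    exact h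
  have h2 := h0 _ _ ((map_eq_zero_iff σ σ.injective).mp h1)
  exact ⟨(map_eq_zero_iff σ.symm σ.symm.injective).mp h2.1,
    (map_eq_zero_iff σ.symm σ.symm.injective).mp h2.2⟩

end Cfsg.Agent.H48
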