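import Mathlib
import Cfsg.Agent.H76.Fus2Main

/-!
# 2-groups of 2-rank 2 whose centre contains a four-group, with automorphisms moving each
central involution (abstract version of `Cfsg.Agent.H76.Fus2.case_central`)
-/

set_option autoImplicit false

namespace Cfsg.Agent.H48.Fus2G

open Cfsg.Agent.H76.Fus2

universe u

theorem not_prank_one_top {G : Type*} [Group G] [Finite G] {z z' : G}
    (hz : z * z = 1) (hz' : z' * z' = 1) (hz1 : z ≠ 1)
    (hz'1 : z' ≠ 1) (hne : z ≠ z') (hc : z * z' = z' * z) : ¬ Cfsg.PRankLE 2 1 G := by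
  intro hrk
  have hS : ∀ a ∈ ({z, z'} : Set G), ∀ b ∈ ({z, z'} : Set G), a * b = b * a := by
    intro a ha b hb
    simp only [Set.mem_insert_iff, Set.mem_singleton_iff] at ha hb
    rcases ha with rfl | rfl <;> rcases hb with rfl | rfl <;>
      first | rfl | assumption | (symm; assumption)
  have hcl : IsMulCommutative ↥(Subgroup.closure ({z, z'} : Set G)) :=
    Subgroup.isMulCommutative_closure hS
  have hzA : z ∈ Subgroup.closure ({z, z'} : Set G) := Subgroup.subset_closure (by simp)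
  have hz'A : z' ∈ Subgroup.closure ({z, z'} : Set G) := Subgroup.subset_closure (by simp)
  have hexp : ∀ a ∈ Subgroup.closure ({z, z'} : Set G), a ^ 2 = 1 := by
    intro a ha
    induction ha using Subgroup.closure_induction with
    | mem y hy =>
      simp only [Set.mem_insert_iff, Set.mem_singleton_iff] at hy
      rcases hy with rfl | rfl <;> rw [pow_two] <;> assumption
    | one => exact one_pow 2
    | mul a b ha hb iha ihb =>
      have hab : a * b = b * a :=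
        congrArg Subtype.val ((isMulCommutative_iff.mp hcl) ⟨a, ha⟩ ⟨b, hb⟩)
      have hab' : Commute a b := hab
      rw [hab'.mul_pow, iha, ihb, one_mul]
    | inv a ha iha => rw [inv_pow, iha, inv_one]
  have hcard := hrk (Subgroup.closure ({z, z'} : Set G)) hcl hexp
  have h3 := three_le_card (α := ↥(Subgroup.closure ({z, z'} : Set G))) (a := 1)
    (b := ⟨z, hzA⟩) (c := ⟨z', hz'A⟩) (fun h => hz1 (congrArg Subtype.val h).symm)
    (fun h => hz'1 (congrArg Subtype.val h).symm) (fun h => hne (congrArg Subtype.val h))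
  norm_num at hcard
  omega

/-- if the centre of the 2-group `T` of rank 2 contains a four-group and every central
involution is moved by some automorphism, then some automorphism permutes the involutions of `T`
transitively -/
theorem central_trans {T : Type u} [Group T] [Finite T]
    (h2 : Cfsg.PRankLE 2 2 T) (z z₂ : T) (hzc : ∀ x : T, z * x = x * z)
    (hz₂c : ∀ x : T, z₂ * x = x * z₂) (hz : z * z = 1) (hz1 : z ≠ 1) (hz₂ : z₂ * z₂ = 1)
    (hz₂1 : z₂ ≠ 1) (hne : z ≠ z₂)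
    (hmove : ∀ e : T, (∀ x : T, e * x = x * e) → e * e = 1 → e ≠ 1 → ∃ α : MulAut T, α e ≠ e) :
    ∃ φ : MulAut T, ∀ a b : T, orderOf a = 2 → orderOf b = 2 → ∃ k : ℕ, (φ ^ k) a = b := by
  have hzz₂ : z * z₂ = z₂ * z := hzc z₂
  have hinv : ∀ a : T, a * a = 1 → a = 1 ∨ a = z ∨ a = z₂ ∨ a = z * z₂ :=
    fun a ha2 => mem_four_of_rank h2 hz hz₂ hz1 hz₂1 hne hzz₂ ha2 (hzc a).symm (hz₂c a).symm
  obtain ⟨e₃, he₃⟩ : ∃ e₃ : T, e₃ = z * z₂ := ⟨_, rfl⟩
  rw [← he₃] at hinv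
  have he₃c : ∀ x : T, e₃ * x = x * e₃ := by
    intro x
    rw [he₃, mul_assoc, hz₂c x, ← mul_assoc, hzc x, mul_assoc]
  have he₃2 : e₃ * e₃ = 1 := by
    rw [he₃]
    calc z * z₂ * (z * z₂) = z * (z₂ * z) * z₂ := by group
      _ = z * (z * z₂) * z₂ := by rw [hzz₂]
      _ = (z * z) * (z₂ * z₂) := by group
      _ = 1 := by rw [hz, hz₂, one_mul]
  have he₃1 : e₃ ≠ 1 := by
    intro h
    apply hne
    calc z = z * (z₂ * z₂) := by rw [hz₂, mul_one]
      _ = (z * z₂) * z₂ := by rw [mul_assoc]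
      _ = z₂ := by rw [← he₃, h, one_mul]
  -- the action of an automorphism on the three involutions
  have act6 : ∀ α : MulAut T,
      (α z = z ∧ α z₂ = z₂ ∧ α e₃ = e₃) ∨
      (α z = z ∧ α z₂ = e₃ ∧ α e₃ = z₂) ∨
      (α z = z₂ ∧ α z₂ = z ∧ α e₃ = e₃) ∨
      (α z = z₂ ∧ α z₂ = e₃ ∧ α e₃ = z) ∨
      (α z = e₃ ∧ α z₂ = z ∧ α e₃ = z₂) ∨
      (α z = e₃ ∧ α z₂ = z₂ ∧ α e₃ = z) := by
    intro α
    have hA2 : α z * α z = 1 := by rw [← map_mul, hz, map_one]
    have hB2 : α z₂ * α z₂ = 1 := by rw [← map_mul, hz₂, map_one]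
    have hA1 : α z ≠ 1 := fun h => hz1 (α.injective (by rw [h, map_one]))
    have hB1 : α z₂ ≠ 1 := fun h => hz₂1 (α.injective (by rw [h, map_one]))
    have hAB : α z ≠ α z₂ := fun h => hne (α.injective h)
    have hC : α e₃ = α z * α z₂ := by rw [he₃, map_mul]
    have p1 : z * e₃ = z₂ := by rw [he₃, ← mul_assoc, hz, one_mul]
    have p2 : z₂ * z = e₃ := by rw [he₃, hzz₂]
    have p3 : z₂ * e₃ = z := by rw [he₃, ← mul_assoc, ← hzz₂, mul_assoc, hz₂, mul_one]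
    have p4 : e₃ * z = z₂ := by rw [he₃, mul_assoc, ← hzz₂, ← mul_assoc, hz, one_mul]
    have p5 : e₃ * z₂ = z := by rw [he₃, mul_assoc, hz₂, mul_one]
    rcases hinv _ hA2 with hA | hA | hA | hA
    · exact absurd hA hA1
    · rcases hinv _ hB2 with hB | hB | hB | hB
      · exact absurd hB hB1
      · exact absurd (hA.trans hB.symm) hAB
      · exact Or.inl ⟨hA, hB, by rw [hC, hA, hB, he₃]⟩
      · exact Or.inr (Or.inl ⟨hA, hB, by rw [hC, hA, hB, p1]⟩)
    · rcases hinv _ hB2 with hB | hB | hB | hB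
      · exact absurd hB hB1
      · exact Or.inr (Or.inr (Or.inl ⟨hA, hB, by rw [hC, hA, hB, p2]⟩))
      · exact absurd (hA.trans hB.symm) hAB
      · exact Or.inr (Or.inr (Or.inr (Or.inl ⟨hA, hB, by rw [hC, hA, hB, p3]⟩)))
    · rcases hinv _ hB2 with hB | hB | hB | hB
      · exact absurd hB hB1
      · exact Or.inr (Or.inr (Or.inr (Or.inr (Or.inl ⟨hA, hB, by rw [hC, hA, hB, p4]⟩))))
      · exact Or.inr (Or.inr (Or.inr (Or.inr (Or.inr ⟨hA, hB, by rw [hC, hA, hB, p5]⟩))))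
      · exact absurd (hA.trans hB.symm) hAB
  -- a three-cycle suffices
  have fin : ∀ n : MulAut T,
      ((n z = z₂ ∧ n z₂ = e₃ ∧ n e₃ = z) ∨ (n z = e₃ ∧ n z₂ = z ∧ n e₃ = z₂)) →
      ∃ φ : MulAut T, ∀ a b : T, orderOf a = 2 → orderOf b = 2 → ∃ k : ℕ, (φ ^ k) a = b := by
    intro n hcyc
    refine ⟨n, ?_⟩
    intro a b hoa hob
    have c2 : ∀ y : T, (n ^ 2) y = n (n y) := fun y => by rw [pow_two]; rfl
    have c1 : ∀ y : T, (n ^ 1) y = n y := fun y => by rw [pow_one]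
    have c0 : ∀ y : T, (n ^ 0) y = y := fun y => by rw [pow_zero]; rfl
    have ha2 : a * a = 1 := by rw [← pow_two, ← hoa]; exact pow_orderOf_eq_one a
    have hb2 : b * b = 1 := by rw [← pow_two, ← hob]; exact pow_orderOf_eq_one b
    have ha1 : a ≠ 1 := by
      intro h
      rw [h, orderOf_one] at hoa
      norm_num at hoa
    have hb1 : b ≠ 1 := by
      intro h
      rw [h, orderOf_one] at hob
      norm_num at hob
    rcases hcyc with ⟨q1, q2, q3⟩ | ⟨q1, q2, q3⟩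
    · rcases hinv a ha2 with h | h | h | h
      · exact absurd h ha1
      · rcases hinv b hb2 with h' | h' | h' | h'
        · exact absurd h' hb1
        · exact ⟨0, by rw [c0, h, h']⟩
        · exact ⟨1, by rw [c1, h, h', q1]⟩
        · exact ⟨2, by rw [c2, h, h', q1, q2]⟩
      · rcases hinv b hb2 with h' | h' | h' | h'
        · exact absurd h' hb1
        · exact ⟨2, by rw [c2, h, h', q2, q3]⟩
        · exact ⟨0, by rw [c0, h, h']⟩
        · exact ⟨1, by rw [c1, h, h', q2]⟩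
      · rcases hinv b hb2 with h' | h' | h' | h'
        · exact absurd h' hb1
        · exact ⟨1, by rw [c1, h, h', q3]⟩
        · exact ⟨2, by rw [c2, h, h', q3, q1]⟩
        · exact ⟨0, by rw [c0, h, h']⟩
    · rcases hinv a ha2 with h | h | h | h
      · exact absurd h ha1
      · rcases hinv b hb2 with h' | h' | h' | h'
        · exact absurd h' hb1
        · exact ⟨0, by rw [c0, h, h']⟩
        · exact ⟨2, by rw [c2, h, h', q1, q3]⟩
        · exact ⟨1, by rw [c1, h, h', q1]⟩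
      · rcases hinv b hb2 with h' | h' | h' | h'
        · exact absurd h' hb1
        · exact ⟨1, by rw [c1, h, h', q2]⟩
        · exact ⟨0, by rw [c0, h, h']⟩
        · exact ⟨2, by rw [c2, h, h', q2, q1]⟩
      · rcases hinv b hb2 with h' | h' | h' | h'
        · exact absurd h' hb1
        · exact ⟨2, by rw [c2, h, h', q3, q2]⟩
        · exact ⟨1, by rw [c1, h, h', q3]⟩
        · exact ⟨0, by rw [c0, h, h']⟩
  have cm : ∀ (n m : MulAut T) (y : T), (n * m) y = n (m y) := fun n m y => rfl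
  obtain ⟨n₁, hm₁⟩ := hmove z hzc hz hz1
  obtain ⟨n₂, hm₂⟩ := hmove z₂ hz₂c hz₂ hz₂1
  obtain ⟨n₃, hm₃⟩ := hmove e₃ he₃c he₃2 he₃1
  rcases act6 n₁ with ⟨a1, a2, a3⟩ | ⟨a1, a2, a3⟩ | ⟨a1, a2, a3⟩ | ⟨a1, a2, a3⟩ |
    ⟨a1, a2, a3⟩ | ⟨a1, a2, a3⟩
  · exact absurd a1 hm₁
  · exact absurd a1 hm₁
  · -- n₁ swaps z, z₂
    rcases act6 n₃ with ⟨b1, b2, b3⟩ | ⟨b1, b2, b3⟩ | ⟨b1, b2, b3⟩ | ⟨b1, b2, b3⟩ |
      ⟨b1, b2, b3⟩ | ⟨b1, b2, b3⟩
    · exact absurd b3 hm₃
    · -- n₃ swaps z₂, e₃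
      exact fin (n₁ * n₃)
        (Or.inl ⟨by rw [cm, b1, a1], by rw [cm, b2, a3], by rw [cm, b3, a2]⟩)
    · exact absurd b3 hm₃
    · exact fin n₃ (Or.inl ⟨b1, b2, b3⟩)
    · exact fin n₃ (Or.inr ⟨b1, b2, b3⟩)
    · -- n₃ swaps z, e₃
      exact fin (n₁ * n₃)
        (Or.inr ⟨by rw [cm, b1, a3], by rw [cm, b2, a2], by rw [cm, b3, a1]⟩)
  · exact fin n₁ (Or.inl ⟨a1, a2, a3⟩)
  · exact fin n₁ (Or.inr ⟨a1, a2, a3⟩)
  · -- n₁ swaps z, e₃
    rcases act6 n₂ with ⟨b1, b2, b3⟩ | ⟨b1, b2, b3⟩ | ⟨b1, b2, b3⟩ | ⟨b1, b2, b3⟩ |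
      ⟨b1, b2, b3⟩ | ⟨b1, b2, b3⟩
    · exact absurd b2 hm₂
    · -- n₂ swaps z₂, e₃
      exact fin (n₁ * n₂)
        (Or.inr ⟨by rw [cm, b1, a1], by rw [cm, b2, a3], by rw [cm, b3, a2]⟩)
    · -- n₂ swaps z, z₂
      exact fin (n₁ * n₂)
        (Or.inl ⟨by rw [cm, b1, a2], by rw [cm, b2, a1], by rw [cm, b3, a3]⟩)
    · exact fin n₂ (Or.inl ⟨b1, b2, b3⟩)
    · exact fin n₂ (Or.inr ⟨b1, b2, b3⟩)
    · exact absurd b2 hm₂

/-- S5213-CG: the central case for an abstract 2-group. -/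
theorem central_group {T : Type u} [Group T] [Finite T] (hT : IsPGroup 2 T)
    (h2 : Cfsg.PRankLE 2 2 T) (z z₂ : T) (hzc : ∀ x : T, z * x = x * z)
    (hz₂c : ∀ x : T, z₂ * x = x * z₂) (hz : z * z = 1) (hz1 : z ≠ 1) (hz₂ : z₂ * z₂ = 1)
    (hz₂1 : z₂ ≠ 1) (hne : z ≠ z₂)
    (hmove : ∀ e : T, (∀ x : T, e * x = x * e) → e * e = 1 → e ≠ 1 → ∃ α : MulAut T, α e ≠ e)
    {K : Type*} [Field K] [Fintype K] (hK : Fintype.card K = 16)
    (P : Sylow 2 (Cfsg.PSU 3 K 4)) :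
    (∃ m : ℕ, 2 ≤ m ∧ Nonempty (T ≃* DihedralGroup m)) ∨ Cfsg.IsQuasiDihedral T ∨
      (∃ n : ℕ, 2 ≤ n ∧ Nonempty (T ≃* Multiplicative (ZMod (2 ^ n) × ZMod (2 ^ n)))) ∨
      Nonempty (T ≃* (P : Subgroup (Cfsg.PSU 3 K 4))) := by
  obtain ⟨φ, htrans⟩ := central_trans h2 z z₂ hzc hz₂c hz hz1 hz₂ hz₂1 hne hmove
  have h1T : ¬ Cfsg.PRankLE 2 1 T := not_prank_one_top hz hz₂ hz1 hz₂1 hne (hzc z₂)
  rcases Cfsg.Agent.S1237.result hT h2 h1T φ htrans hK P with ⟨m, hm, he⟩ | he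
  · obtain ⟨e⟩ := he
    by_cases hm1 : m = 1
    · subst hm1
      have key := Cfsg.Agent.H40.TwoRank.mc_two (S := T) hT ⊤ ?_ ?_ ?_
      · rcases key with h | h
        · exact Or.inl h
        · exact Or.inr (Or.inl h)
      · rw [Subgroup.card_top, Nat.card_congr e.toEquiv, card_homo]
        norm_num
      · intro x _
        have h1 : e x * e x = 1 := sq_one_homo_one _
        rw [← map_mul] at h1
        exact e.injective (by rw [h1, map_one])
      · ext x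
        simp only [Subgroup.mem_centralizer_iff, Subgroup.mem_top, iff_true]
        intro y _
        exact e.injective (by rw [map_mul, map_mul, mul_comm])
    · exact Or.inr (Or.inr (Or.inl ⟨m, by omega, ⟨e⟩⟩))
  · exact Or.inr (Or.inr (Or.inr he))

end Cfsg.Agent.H48.Fus2G
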