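import Mathlib
import Cfsg.Agent.H76.Fus2Main

/-!
# 2-groups of 2-rank 2 with a unique central involution and a transitive automorphism of the
centralizer of a second involution (abstract version of `Cfsg.Agent.H76.Fus2.case_tame`)
-/

set_option autoImplicit false

namespace Cfsg.Agent.H48.Fus2G

open Cfsg.Agent.H60 Cfsg.Agent.H76.CubeOne Cfsg.Agent.H76.Fus2

universe u

/-- S5213-TG: the tame case for an abstract 2-group. -/
theorem tame_group {T : Type u} [Group T] [Finite T] (hT : IsPGroup 2 T)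
    (h2 : Cfsg.PRankLE 2 2 T) (z z₁ : T) (hz : z * z = 1) (hz1 : z ≠ 1) (hz₁ : z₁ * z₁ = 1)
    (hz₁1 : z₁ ≠ 1) (hne : z ≠ z₁) (hzc : ∀ x : T, z * x = x * z)
    (huniq : ∀ y : T, (∀ x : T, y * x = x * y) → y * y = 1 → y = 1 ∨ y = z)
    (Q : Subgroup T) (hQ : ∀ x : T, x ∈ Q ↔ x * z₁ = z₁ * x)
    (φ : MulAut ↥Q)
    (htrans : ∀ a b : ↥Q, orderOf a = 2 → orderOf b = 2 → ∃ k : ℕ, (φ ^ k) a = b)
    {K : Type*} [Field K] [Fintype K] (hK : Fintype.card K = 16)
    (P : Sylow 2 (Cfsg.PSU 3 K 4)) :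
    (∃ m : ℕ, 2 ≤ m ∧ Nonempty (T ≃* DihedralGroup m)) ∨ Cfsg.IsQuasiDihedral T ∨
      Cfsg.IsWreathed T := by
  have hp2 : Fact (Nat.Prime 2) := ⟨Nat.prime_two⟩
  have hTtop : IsPGroup 2 ↥(⊤ : Subgroup T) := hT.to_subgroup ⊤
  have hQp : IsPGroup 2 ↥Q := hT.to_subgroup Q
  have hzz' : z * z₁ = z₁ * z := hzc z₁
  have hzQ : z ∈ Q := (hQ z).mpr hzz'
  have hz'Q : z₁ ∈ Q := (hQ z₁).mpr rfl
  have hS₁Q : ∀ x : T, x * z₁ = z₁ * x → x ∈ Q := fun x => (hQ x).mpr
  have hinv : ∀ q ∈ Q, q * q = 1 → q = 1 ∨ q = z ∨ q = z₁ ∨ q = z * z₁ := fun q hq hq2 =>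
    mem_four_of_rank h2 hz hz₁ hz1 hz₁1 hne hzz' hq2 (hzc q).symm ((hQ q).mp hq)
  have hneT : ¬ (⊤ : Subgroup T) ≤ Q := by
    intro h
    rcases huniq z₁ (fun x => ((hQ x).mp (h (Subgroup.mem_top x))).symm) hz₁ with h1 | h1
    · exact hz₁1 h1
    · exact hne h1.symm
  obtain ⟨s, -, hsQ, hsn⟩ := exists_normalizing (⊤ : Subgroup T) Q hTtop le_top hneT
  have hsz : s * z * s⁻¹ = z := by rw [← hzc s, mul_inv_cancel_right]
  have hsz' : s * z₁ * s⁻¹ = z * z₁ := by
    have h1 := hsn z₁ hz'Q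
    have h2' : (s * z₁ * s⁻¹) * (s * z₁ * s⁻¹) = 1 := by
      calc (s * z₁ * s⁻¹) * (s * z₁ * s⁻¹) = s * (z₁ * z₁) * s⁻¹ := by group
        _ = 1 := by rw [hz₁]; group
    rcases hinv _ h1 h2' with h | h | h | h
    · exfalso
      apply hz₁1
      calc z₁ = s⁻¹ * (s * z₁ * s⁻¹) * s := by group
        _ = 1 := by rw [h]; group
    · exfalso
      apply hne
      exact (mul_left_cancel (mul_right_cancel (h.trans hsz.symm))).symm
    · exfalso
      apply hsQ
      apply hS₁Q s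
      calc s * z₁ = (s * z₁ * s⁻¹) * s := by group
        _ = z₁ * s := by rw [h]
    · exact h
  have h1Q : ¬ Cfsg.PRankLE 2 1 ↥Q := not_prank_one Q hzQ hz'Q hz hz₁ hz1 hz₁1 hne hzz'
  have hs2Q : s * s ∈ Q := by
    apply hS₁Q _
    have e1 : s * (z * z₁) * s⁻¹ = z₁ := by
      calc s * (z * z₁) * s⁻¹ = (s * z * s⁻¹) * (s * z₁ * s⁻¹) := by group
        _ = z * (z * z₁) := by rw [hsz, hsz']
        _ = z₁ := by rw [← mul_assoc, hz, one_mul]
    calc s * s * z₁ = s * (s * z₁ * s⁻¹) * s := by group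
      _ = s * (z * z₁) * s := by rw [hsz']
      _ = (s * (z * z₁) * s⁻¹) * s * s := by group
      _ = z₁ * (s * s) := by rw [e1, mul_assoc]
  have hszne : s * z₁ * s⁻¹ ≠ z₁ := by
    intro h1
    rw [hsz'] at h1
    exact hz1 (mul_right_cancel (b := z₁) (by rw [one_mul]; exact h1))
  have hQcomm_of : ∀ (m : ℕ) (e : ↥Q ≃* Multiplicative (ZMod (2 ^ m) × ZMod (2 ^ m)))
      (a b : T), a ∈ Q → b ∈ Q → a * b = b * a := by
    intro m e a b ha hb
    have h0 : (⟨a, ha⟩ : ↥Q) * ⟨b, hb⟩ = ⟨b, hb⟩ * ⟨a, ha⟩ :=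
      e.injective (by rw [map_mul, map_mul, mul_comm])
    exact congrArg Subtype.val h0
  rcases Cfsg.Agent.S1237.result hQp (prank_sub h2 Q) h1Q φ htrans hK P with
    ⟨m, hm, he⟩ | he
  · obtain ⟨e⟩ := he
    by_cases hm1 : m = 1
    · subst hm1
      have key := Cfsg.Agent.H40.TwoRank.mc_two (S := T) hT Q ?_ ?_ ?_
      · rcases key with h | h
        · exact Or.inl h
        · exact Or.inr (Or.inl h)
      · rw [Nat.card_congr e.toEquiv, card_homo]
        norm_num
      · intro x hx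
        have h1 : e ⟨x, hx⟩ * e ⟨x, hx⟩ = 1 := sq_one_homo_one _
        rw [← map_mul] at h1
        have h3 : (⟨x, hx⟩ : ↥Q) * ⟨x, hx⟩ = 1 := e.injective (by rw [h1, map_one])
        exact congrArg Subtype.val h3
      · ext x
        rw [Subgroup.mem_centralizer_iff]
        constructor
        · intro h
          apply hS₁Q x
          exact (h z₁ hz'Q).symm
        · intro hx y hy
          exact hQcomm_of 1 e y x hy hx
    · have hm2 : 2 ≤ m := by omega
      have hQab := hQcomm_of m e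
      right; right
      obtain ⟨W₀, hW₀⟩ : ∃ W₀ : Subgroup T, W₀ = Subgroup.normalizer (Q : Set T) := ⟨_, rfl⟩
      have hmemN : ∀ w : T, (∀ q ∈ Q, w * q * w⁻¹ ∈ Q) →
          w ∈ Subgroup.normalizer (Q : Set T) := by
        intro w hw
        rw [Subgroup.mem_normalizer_iff]
        intro q
        have h0 := mem_iff_of_inv (MulAut.conj w) Q
          (fun x hx => by rw [MulAut.conj_apply]; exact hw x hx) q
        rw [MulAut.conj_apply] at h0
        exact h0.symm
      have hQW : Q ≤ W₀ := by rw [hW₀]; exact Subgroup.le_normalizer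
      have hsW : s ∈ W₀ := by rw [hW₀]; exact hmemN s hsn
      have hWn : ∀ w ∈ W₀, ∀ q ∈ Q, w * q * w⁻¹ ∈ Q := by
        intro w hw q hq
        rw [hW₀] at hw
        exact (Subgroup.mem_normalizer_iff.mp hw q).mp hq
      have hWdich : ∀ w ∈ W₀, w ∈ Q ∨ s⁻¹ * w ∈ Q := by
        intro w hw
        have h1 := hWn w hw z₁ hz'Q
        have h2' : (w * z₁ * w⁻¹) * (w * z₁ * w⁻¹) = 1 := by
          calc (w * z₁ * w⁻¹) * (w * z₁ * w⁻¹) = w * (z₁ * z₁) * w⁻¹ := by group
            _ = 1 := by rw [hz₁]; group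
        have hwz : w * z * w⁻¹ = z := by rw [← hzc w, mul_inv_cancel_right]
        rcases hinv _ h1 h2' with h | h | h | h
        · exfalso
          apply hz₁1
          calc z₁ = w⁻¹ * (w * z₁ * w⁻¹) * w := by group
            _ = 1 := by rw [h]; group
        · exfalso
          apply hne
          exact (mul_left_cancel (mul_right_cancel (h.trans hwz.symm))).symm
        · left
          apply hS₁Q w
          calc w * z₁ = (w * z₁ * w⁻¹) * w := by group
            _ = z₁ * w := by rw [h]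
        · right
          apply hS₁Q _
          calc s⁻¹ * w * z₁ = s⁻¹ * (w * z₁ * w⁻¹) * w := by group
            _ = s⁻¹ * (s * z₁ * s⁻¹) * w := by rw [h, hsz']
            _ = z₁ * (s⁻¹ * w) := by group
      obtain ⟨⟨a, b, t, ha, hab, hint, ht, htab⟩, hcardW, huniqA⟩ :=
        Cfsg.Agent.H80.Wr.wreathed_of_swap (W := ↥W₀) (Q.subgroupOf W₀) m hm
          ((Subgroup.subgroupOfEquivOfLe hQW).trans e) ⟨s, hsW⟩
          (by rw [Subgroup.mem_subgroupOf]; exact hsQ)
          (by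
            intro w
            rcases hWdich w.1 w.2 with h | h
            · left; rw [Subgroup.mem_subgroupOf]; exact h
            · right; rw [Subgroup.mem_subgroupOf]; exact h)
          (by
            intro q hq
            rw [Subgroup.mem_subgroupOf] at hq ⊢
            exact hsn q.1 hq)
          ⟨z₁, hQW hz'Q⟩ (by rw [Subgroup.mem_subgroupOf]; exact hz'Q)
          (Subtype.ext hz₁)
          (fun h => hszne (congrArg Subtype.val h))
      have hTW : (⊤ : Subgroup T) ≤ W₀ := by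
        by_contra hnot
        obtain ⟨w, -, hwW, hwn⟩ := exists_normalizing (⊤ : Subgroup T) W₀ hTtop le_top hnot
        apply hwW
        rw [hW₀]
        refine hmemN w ?_
        have hmapW : Q.map (MulAut.conj w).toMonoidHom ≤ W₀ := by
          rintro _ ⟨q, hq, rfl⟩
          exact hwn q (hQW hq)
        have hA := huniqA hm2 ((Q.map (MulAut.conj w).toMonoidHom).subgroupOf W₀) ?_ ?_
        · intro q hq
          have h1 : (⟨w * q * w⁻¹, hwn q (hQW hq)⟩ : ↥W₀) ∈
              (Q.map (MulAut.conj w).toMonoidHom).subgroupOf W₀ := by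
            rw [Subgroup.mem_subgroupOf]
            exact ⟨q, hq, rfl⟩
          rw [hA, Subgroup.mem_subgroupOf] at h1
          exact h1
        · intro x hx y hy
          rw [Subgroup.mem_subgroupOf] at hx hy
          obtain ⟨q1, hq1, hx1⟩ := hx
          obtain ⟨q2, hq2, hy1⟩ := hy
          apply Subtype.ext
          show x.1 * y.1 = y.1 * x.1
          rw [← hx1, ← hy1]
          show w * q1 * w⁻¹ * (w * q2 * w⁻¹) = w * q2 * w⁻¹ * (w * q1 * w⁻¹)
          calc w * q1 * w⁻¹ * (w * q2 * w⁻¹) = w * (q1 * q2) * w⁻¹ := by group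
            _ = w * (q2 * q1) * w⁻¹ := by rw [hQab q1 q2 hq1 hq2]
            _ = w * q2 * w⁻¹ * (w * q1 * w⁻¹) := by group
        · rw [Nat.card_congr (Subgroup.subgroupOfEquivOfLe hmapW).toEquiv,
            Subgroup.card_map_of_injective (MulAut.conj w).injective,
            Nat.card_congr (Subgroup.subgroupOfEquivOfLe hQW).toEquiv]
      have hEq : W₀ = ⊤ := top_le_iff.mp hTW
      exact wreathed_of_equiv ((MulEquiv.subgroupCongr hEq).trans Subgroup.topEquiv)
        ⟨m, hm2, hcardW, a, b, t, ha, hab, hint, ht, htab⟩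
  · exfalso
    obtain ⟨e⟩ := he
    have hS2 : SuzFin K 2 := ⟨hK.trans (by norm_num), by norm_num⟩
    obtain ⟨e₂⟩ := sylow_psu_iso (F := K) (n := 2) P
    let κ : MulAut ↥Q := resAut (MulAut.conj s) Q
      (fun x hx => by rw [MulAut.conj_apply]; exact hsn x hx)
    refine Cfsg.Agent.H20.TwoRank.no_swap (T := ↥Q) (e.trans e₂.symm) κ ⟨s * s, hs2Q⟩ ?_
      ⟨z, hzQ⟩ ⟨z₁, hz'Q⟩
      (Subtype.ext hz) (Subtype.ext hz₁) (fun h => hz1 (congrArg Subtype.val h))
      (fun h => hz₁1 (congrArg Subtype.val h)) (fun h => hne (congrArg Subtype.val h))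
      (Subtype.ext hsz) (fun h => hszne (congrArg Subtype.val h))
    intro g
    apply Subtype.ext
    show s * (s * g.1 * s⁻¹) * s⁻¹ = (s * s) * g.1 * (s * s)⁻¹
    group

end Cfsg.Agent.H48.Fus2G
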