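import Cfsg.Agent.H10.HO.Defs2

/-!
# HO-HG (piece of S2075, helper10's project HO)

An automorphism fixing `x, z, t` fixes every word `evS x z t w`; `w0 := n⁻¹ * β n` commutes
with `z` and with every `evS x z t p.1`, `p ∈ D`, hence is `1`; so `β` fixes the generators.
-/

set_option autoImplicit false

namespace Cfsg.Agent.H48.Ho

universe u

open Cfsg.Agent.H10.HO

theorem evS_fix {G : Type u} [Group G] (x z t : G) (β : MulAut G) (hx : β x = x) (hz : β z = z)
    (ht : β t = t) : ∀ w : List ℕ, β (evS x z t w) = evS x z t w := by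
  intro w
  induction w with
  | nil => simp [evS]
  | cons a w ih =>
    match a with
    | 0 => simp [evS, map_mul, hx, ih]
    | 1 => simp [evS, map_mul, map_inv, hx, ih]
    | 2 => simp [evS, map_mul, hz, ih]
    | 3 => simp [evS, map_mul, map_inv, hz, ih]
    | (m + 4) => simp [evS, map_mul, ht, ih]

/-- HO-HG. -/
theorem hg : Cfsg.Agent.H10.HO.StHG.{u} := by
  intro G _ x z t n k D hC hn hD h1 h2 hgen β hx hz ht
  have hev := evS_fix x z t β hx hz ht
  obtain ⟨w0, hw0⟩ : ∃ w0 : G, w0 = n⁻¹ * β n := ⟨_, rfl⟩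
  have key : ∀ d : G, β d = d → β (n * d * n⁻¹) = n * d * n⁻¹ → w0 * d = d * w0 := by
    intro d hd hnd
    have h : β n * d * (β n)⁻¹ = n * d * n⁻¹ := by
      rw [← hnd, map_mul, map_mul, map_inv, hd]
    calc w0 * d = n⁻¹ * (β n * d * (β n)⁻¹) * β n := by rw [hw0]; group
      _ = n⁻¹ * (n * d * n⁻¹) * β n := by rw [h]
      _ = d * w0 := by rw [hw0]; group
  have hwz : w0 * z = z * w0 := by
    apply key z hz
    rw [hn, map_pow, hz]
  obtain ⟨a, ha, hcase⟩ := hC w0 hwz
  have hwp : ∀ p ∈ D, w0 * evS x z t p.1 = evS x z t p.1 * w0 := by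
    intro p hp
    apply key _ (hev p.1)
    rw [hD p hp]
    exact hev p.2
  have hw1 : w0 = 1 := by
    rcases hcase with h | h
    · by_cases ha0 : a = 0
      · rw [h, ha0, pow_zero]
      · exfalso
        obtain ⟨p, hp, hne⟩ := h1 a (Nat.pos_of_ne_zero ha0) ha
        apply hne
        rw [← h]
        exact hwp p hp
    · exfalso
      obtain ⟨p, hp, hne⟩ := h2 a ha
      apply hne
      rw [← h]
      exact hwp p hp
  have hβn : β n = n := by
    have h : n * w0 = β n := by rw [hw0]; group
    rw [← h, hw1, mul_one]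
  have hall : ∀ g : G, β g = g := by
    intro g
    have hg : g ∈ Subgroup.closure ({x, z, t, n} : Set G) := by rw [hgen]; trivial
    induction hg using Subgroup.closure_induction with
    | mem y hy =>
      simp only [Set.mem_insert_iff, Set.mem_singleton_iff] at hy
      rcases hy with h | h | h | h
      · rw [h]; exact hx
      · rw [h]; exact hz
      · rw [h]; exact ht
      · rw [h]; exact hβn
    | one => exact map_one β
    | mul a b _ _ iha ihb => rw [map_mul, iha, ihb]
    | inv a _ iha => rw [map_inv, iha]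
  exact MulEquiv.ext (fun g => by rw [hall g]; rfl)

example : Cfsg.Agent.H10.HO.StHG.{u} := hg

end Cfsg.Agent.H48.Ho
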