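import Cfsg.Agent.H26.SE2

set_option autoImplicit false

/-!
(G2) of the JZ project (S2951 / S2952): a strongly embedded subgroup is transitive on its
involutions.  Corollary of helper26's `se_D_trans`.
-/

namespace Cfsg.Agent.H48.Jz

universe u

/-- A strongly embedded subgroup misses some involution of the group. -/
theorem se_exists_inv_out {G : Type u} [Group G] [Finite G] {H : Subgroup G}
    (hH : Cfsg.IsStronglyEmbedded H) : ∃ y : G, orderOf y = 2 ∧ y ∉ H := by
  obtain ⟨t, ht, htH⟩ := Cfsg.Agent.H26.se_exists_inv hH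
  have hne : H ≠ ⊤ := hH.1
  obtain ⟨g, hg⟩ : ∃ g : G, g ∉ H := by
    by_contra hcon
    exact hne (eq_top_iff.mpr fun x _ => by_contra fun hx => hcon ⟨x, hx⟩)
  refine ⟨g * t * g⁻¹, ?_, ?_⟩
  · rw [Cfsg.Agent.H26.orderOf_conj_eq]; exact ht
  · intro hmem
    -- the involution `g t g⁻¹` lies in `H ∩ gHg⁻¹`
    have hord : orderOf (g * t * g⁻¹) = 2 := by
      rw [Cfsg.Agent.H26.orderOf_conj_eq]; exact ht
    apply hg
    apply Cfsg.Agent.H26.se_mem_of_inv_mem_inter hH hord hmem
    have : g⁻¹ * (g * t * g⁻¹) * g = t := by group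
    rw [this]; exact htH

/-- **(G2)** A strongly embedded subgroup is transitive (by conjugation) on its involutions. -/
theorem se_trans {G : Type u} [Group G] [Finite G] {H : Subgroup G}
    (hH : Cfsg.IsStronglyEmbedded H) {s t : G} (hs : orderOf s = 2) (hsH : s ∈ H)
    (ht : orderOf t = 2) (htH : t ∈ H) : ∃ d ∈ H, d * s * d⁻¹ = t := by
  obtain ⟨y, hy, hyH⟩ := se_exists_inv_out hH
  obtain ⟨d, hd, hdst⟩ := Cfsg.Agent.H26.se_D_trans hH hy hyH hs hsH ht htH
  exact ⟨d, (Subgroup.mem_inf.mp hd).1, hdst⟩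

/-- (G2), `IsConj`-free set form: all involutions of a strongly embedded subgroup `H`
are `H`-conjugate. -/
theorem se_trans' {G : Type u} [Group G] [Finite G] (H : Subgroup G)
    (hH : Cfsg.IsStronglyEmbedded H) :
    ∀ s ∈ H, ∀ t ∈ H, orderOf s = 2 → orderOf t = 2 → ∃ d ∈ H, d * s * d⁻¹ = t :=
  fun _ hsH _ htH hs ht => se_trans hH hs hsH ht htH

end Cfsg.Agent.H48.Jz
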