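import Mathlib
import Cfsg.Agent.H56.SqDefs
import Cfsg.Agent.H78.StSp3
import Cfsg.Agent.H99.StSpSyl

/-!
# S4625-PSP (helper48, for helper56): `PSp_{2m}(F)` in characteristic 2 has a 2-subgroup of odd
index generated by involutions (Siegel elements and row involutions of the Levi factor).
-/

set_option autoImplicit false

namespace Cfsg.Agent.H48.Sq

open Matrix Cfsg Cfsg.Agent.H50.AutPSL Cfsg.Agent.H78.StSp Cfsg.Agent.H56.Sq

variable {F : Type} [Field F] [Fintype F] [CharP F 2] {m : ℕ}

/-- The subgroup generated by the involutions of the unipotent subgroup `USp`. -/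
noncomputable def UI (m : ℕ) (F : Type) [Field F] [Fintype F] :
    Subgroup (symplecticGroup (Fin (m + 1)) F) :=
  Subgroup.closure {t | t ∈ USp m F ∧ t ^ 2 = 1}

theorem UI_le : UI m F ≤ USp m F := by
  unfold UI
  rw [Subgroup.closure_le]
  intro t ht
  exact ht.1

theorem siegel_mem_UI (S : Matrix (Fin (m + 1)) (Fin (m + 1)) F) (hS : Sᵀ = S) :
    (⟨fromBlocks 1 S 0 1, Cfsg.Agent.H45.upper_mem_sp S hS⟩ :
      symplecticGroup (Fin (m + 1)) F) ∈ UI m F := by
  apply Subgroup.subset_closure
  refine ⟨siegel_mem_USp S hS, ?_⟩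
  rw [pow_two]
  apply Subtype.ext
  show (fromBlocks 1 S 0 1 : Matrix (Fin (m + 1) ⊕ Fin (m + 1)) (Fin (m + 1) ⊕ Fin (m + 1)) F) *
    fromBlocks 1 S 0 1 = 1
  rw [Matrix.fromBlocks_multiply]
  have h2 : S + S = 0 := by
    ext i j
    exact CharTwo.add_self_eq_zero (S i j)
  simp only [Matrix.mul_one, Matrix.one_mul, Matrix.mul_zero, Matrix.zero_mul, add_zero, zero_add,
    h2]
  exact Matrix.fromBlocks_one

/-- The Levi element. -/
noncomputable def lev (A A' : Matrix (Fin (m + 1)) (Fin (m + 1)) F) (h : A * A' = 1) :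
    symplecticGroup (Fin (m + 1)) F :=
  ⟨fromBlocks A 0 0 A'ᵀ, Cfsg.Agent.H45.diag_mem_sp A A' h⟩

theorem lev_mul (A B C : Matrix (Fin (m + 1)) (Fin (m + 1)) F) (h : A * B * C = 1)
    (h1 : A * (B * C) = 1) (h2 : B * (C * A) = 1) :
    lev (A * B) C h = lev A (B * C) h1 * lev B (C * A) h2 := by
  apply Subtype.ext
  show (fromBlocks (A * B) 0 0 Cᵀ : Matrix (Fin (m + 1) ⊕ Fin (m + 1)) (Fin (m + 1) ⊕ Fin (m + 1)) F)
    = fromBlocks A 0 0 (B * C)ᵀ * fromBlocks B 0 0 (C * A)ᵀ
  rw [Matrix.fromBlocks_multiply]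
  have e : (B * C)ᵀ * (C * A)ᵀ = Cᵀ := by
    rw [← Matrix.transpose_mul]
    congr 1
    calc C * A * (B * C) = C * (A * B * C) := by simp only [Matrix.mul_assoc]
      _ = C := by rw [h, Matrix.mul_one]
  simp only [Matrix.mul_zero, Matrix.zero_mul, add_zero, zero_add, e]

/-- The property: the Levi element of `A` lies in `UI`. -/
def T (A : Matrix (Fin (m + 1)) (Fin (m + 1)) F) : Prop :=
  ∀ (A' : Matrix (Fin (m + 1)) (Fin (m + 1)) F) (h : A * A' = 1), lev A A' h ∈ UI m F

theorem T_invol (R : Matrix (Fin (m + 1)) (Fin (m + 1)) F) (hR : IsUT R) (hRR : R * R = 1) :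
    T R := by
  intro A' h
  have e : A' = R := by
    calc A' = R * R * A' := by rw [hRR, Matrix.one_mul]
      _ = R := by rw [Matrix.mul_assoc, h, Matrix.mul_one]
  subst e
  apply Subgroup.subset_closure
  refine ⟨levi_mem_USp A' A' hR h, ?_⟩
  rw [pow_two]
  apply Subtype.ext
  show (fromBlocks A' 0 0 A'ᵀ : Matrix (Fin (m + 1) ⊕ Fin (m + 1)) (Fin (m + 1) ⊕ Fin (m + 1)) F) *
    fromBlocks A' 0 0 A'ᵀ = 1
  rw [Matrix.fromBlocks_multiply]
  have e2 : A'ᵀ * A'ᵀ = 1 := by rw [← Matrix.transpose_mul, hRR, Matrix.transpose_one]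
  simp only [Matrix.mul_zero, Matrix.zero_mul, add_zero, zero_add, e2, hRR]
  exact Matrix.fromBlocks_one

theorem T_mul (A B : Matrix (Fin (m + 1)) (Fin (m + 1)) F) (hA : T A) (hB : T B) : T (A * B) := by
  intro C h
  have h1 : A * (B * C) = 1 := by rw [← Matrix.mul_assoc]; exact h
  have h1' : B * C * A = 1 := mul_eq_one_comm.mp h1
  have h2 : B * (C * A) = 1 := by rw [← Matrix.mul_assoc]; exact h1'
  rw [lev_mul A B C h h1 h2]
  exact Subgroup.mul_mem _ (hA _ h1) (hB _ h2)

theorem T_of_rows : ∀ (k : ℕ) (A : Matrix (Fin (m + 1)) (Fin (m + 1)) F), IsUT A →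
    (∀ i : Fin (m + 1), (i : ℕ) + k < m + 1 → ∀ j, A i j = (1 : Matrix (Fin (m + 1)) (Fin (m + 1)) F) i j) →
    T A := by
  intro k
  induction k with
  | zero =>
    intro A hA hrows
    have e : A = 1 := by
      ext i j
      exact hrows i (by have := i.2; omega) j
    subst e
    exact T_invol 1 isUT_one (Matrix.one_mul 1)
  | succ k ih =>
    intro A hA hrows
    by_cases hk : k ≤ m
    · obtain ⟨i₀, hi₀⟩ : ∃ i₀ : Fin (m + 1), (i₀ : ℕ) = m - k := ⟨⟨m - k, by omega⟩, rfl⟩
      obtain ⟨N, hN⟩ : ∃ N : Matrix (Fin (m + 1)) (Fin (m + 1)) F, ∀ c b, N c b =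
          if c = i₀ then A i₀ b - (1 : Matrix (Fin (m + 1)) (Fin (m + 1)) F) i₀ b else 0 :=
        ⟨Matrix.of fun c b => if c = i₀ then A i₀ b -
          (1 : Matrix (Fin (m + 1)) (Fin (m + 1)) F) i₀ b else 0, fun c b => rfl⟩
      have hNi : ∀ a, N a i₀ = 0 := by
        intro a
        rw [hN]
        split_ifs with h
        · rw [hA.2 i₀, Matrix.one_apply_eq, sub_self]
        · rfl
      have hNN : N * N = 0 := by
        ext a b
        rw [Matrix.mul_apply, Matrix.zero_apply]
        apply Finset.sum_eq_zero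
        intro c _
        by_cases hc : c = i₀
        · rw [hc, hNi, zero_mul]
        · rw [hN c b, if_neg hc, mul_zero]
      have hAi : ∀ a, A a i₀ = if a = i₀ then 1 else 0 := by
        intro a
        split_ifs with h
        · rw [h]; exact hA.2 i₀
        · rcases lt_or_gt_of_ne h with h1 | h1
          · have h2 : (a : ℕ) + (k + 1) < m + 1 := by
              have : (a : ℕ) < (i₀ : ℕ) := h1
              omega
            rw [hrows a h2 i₀, Matrix.one_apply_ne h]
          · exact hA.1 a i₀ h1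
      have hAN : A * N = N := by
        ext a b
        rw [Matrix.mul_apply, Finset.sum_eq_single i₀]
        · rw [hAi a, hN a b, hN i₀ b, if_pos rfl]
          split_ifs with h
          · rw [one_mul]
          · rw [zero_mul]
        · intro c _ hc
          rw [hN c b, if_neg hc, mul_zero]
        · intro h
          exact absurd (Finset.mem_univ i₀) h
      have hprod : (A - N) * (1 + N) = A := by
        rw [Matrix.sub_mul, Matrix.mul_add, Matrix.mul_add, Matrix.mul_one, Matrix.mul_one, hAN,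
          hNN, add_zero, add_sub_cancel_right]
      have hR : IsUT (1 + N) := by
        constructor
        · intro a b hba
          rw [Matrix.add_apply, Matrix.one_apply_ne hba.ne', zero_add, hN]
          split_ifs with h
          · rw [h] at hba
            rw [hA.1 i₀ b hba, Matrix.one_apply_ne hba.ne', sub_self]
          · rfl
        · intro a
          rw [Matrix.add_apply, Matrix.one_apply_eq, hN]
          split_ifs with h
          · rw [h, hA.2 i₀, Matrix.one_apply_eq, sub_self, add_zero]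
          · rw [add_zero]
      have hRR : (1 + N) * (1 + N) = 1 := by
        rw [Matrix.add_mul, Matrix.mul_add, Matrix.mul_add, Matrix.one_mul, Matrix.one_mul,
          Matrix.mul_one, hNN, add_zero]
        have h2 : N + N = 0 := by
          ext i j
          exact CharTwo.add_self_eq_zero (N i j)
        rw [add_assoc, h2, add_zero]
      have hX : IsUT (A - N) := by
        constructor
        · intro a b hba
          rw [Matrix.sub_apply, hA.1 a b hba, hN]
          split_ifs with h
          · rw [h] at hba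
            rw [hA.1 i₀ b hba, Matrix.one_apply_ne hba.ne', sub_self, sub_zero]
          · rw [sub_zero]
        · intro a
          rw [Matrix.sub_apply, hA.2 a, hN]
          split_ifs with h
          · rw [h, hA.2 i₀, Matrix.one_apply_eq, sub_self, sub_zero]
          · rw [sub_zero]
      have hXrows : ∀ i : Fin (m + 1), (i : ℕ) + k < m + 1 → ∀ j,
          (A - N) i j = (1 : Matrix (Fin (m + 1)) (Fin (m + 1)) F) i j := by
        intro i hi j
        rw [Matrix.sub_apply, hN]
        split_ifs with h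
        · rw [h]
          rw [sub_sub_cancel]
        · have h2 : (i : ℕ) + (k + 1) < m + 1 := by
            have h3 : (i : ℕ) ≠ (i₀ : ℕ) := fun h4 => h (Fin.ext h4)
            omega
          rw [hrows i h2 j, sub_zero]
      have hTX : T (A - N) := ih (A - N) hX hXrows
      have hTR : T (1 + N) := T_invol (1 + N) hR hRR
      have := T_mul (A - N) (1 + N) hTX hTR
      rw [hprod] at this
      exact this
    · apply ih A hA
      intro i hi j
      exfalso
      omega

theorem levi_mem_UI (A A' : Matrix (Fin (m + 1)) (Fin (m + 1)) F) (hA : IsUT A) (h : A * A' = 1) :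
    (⟨fromBlocks A 0 0 A'ᵀ, Cfsg.Agent.H45.diag_mem_sp A A' h⟩ :
      symplecticGroup (Fin (m + 1)) F) ∈ UI m F :=
  T_of_rows (m + 1) A hA (fun i hi j => by exfalso; omega) A' h

/-- **S4625-PSP**: the statement for the symplectic family. -/
theorem psp : Cfsg.Agent.H56.Sq.PSpStmt := by
  intro F _ _ _ m hm _ _
  obtain ⟨m', rfl⟩ : ∃ m', m = m' + 1 := ⟨m - 1, by omega⟩
  have : Fact (Nat.Prime 2) := ⟨Nat.prime_two⟩
  obtain ⟨f, hp, hF⟩ := FiniteField.card F 2
  have hUp : IsPGroup 2 (USp m' F) :=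
    (IsPGroup.of_card (n := f * ∑ j : Fin ((m' + 1) + (m' + 1)), (j : ℕ))
      (by rw [card_Uni, hF, pow_mul])).comap_of_injective (psi m' F) psi_injective
  have hUI : IsPGroup 2 (UI m' F) := hUp.to_le UI_le
  have hidx : ¬ 2 ∣ (UI m' F).index :=
    Cfsg.Agent.H99.StSp.sp_sylow 2 (m' + 1) (UI m' F) hUI
      (fun A A' hA h => ⟨_, levi_mem_UI A A' hA h, rfl⟩)
      (fun S hS => ⟨_, siegel_mem_UI S hS, rfl⟩)
  have hG : GoodSyl (symplecticGroup (Fin (m' + 1)) F) := by
    refine goodSyl_of_invol (UI m' F) hUI hidx ?_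
    show Subgroup.closure {t | t ∈ USp m' F ∧ t ^ 2 = 1} ≤ _
    apply Subgroup.closure_mono
    rintro t ⟨ht, ht2⟩
    exact ⟨Subgroup.subset_closure ⟨ht, ht2⟩, ht2⟩
  exact GoodSyl.quotient (Subgroup.center _) hG

example : Cfsg.Agent.H56.Sq.PSpStmt := psp

end Cfsg.Agent.H48.Sq
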