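import Cfsg.Agent.H74.TsDefs
import Cfsg.Agent.H1.Coprime
import Cfsg.Agent.H90.Coprime

/-!
# TS-K1B (piece of S2948): `U := [D, J] Q` has index 3 over `Q`

In `X ⧸ Q`: `Ub := ⁅Db, Jb⁆` satisfies `⁅Ub, Jb⁆ = Ub` (coprime action), centralizes `Cb`
(three subgroups lemma), is abelian (cyclic quotient by a central subgroup), hence meets
`Cb` trivially (norm map), hence has order 3.
-/

set_option autoImplicit false
open Cfsg
open scoped commutatorElement

namespace Cfsg.Agent.H48.Ts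

universe u

/-- abelian coprime action, internal form: a fixed point in `⁅U, J⁆ = U` is trivial. -/
theorem fix_eq_one_of_abelian {Y : Type u} [Group Y] [Finite Y] (U J : Subgroup Y)
    (hJU : J ≤ Subgroup.normalizer (U : Set Y))
    (hab : ∀ x ∈ U, ∀ y ∈ U, x * y = y * x)
    (hcop : (Nat.card J).Coprime (Nat.card U))
    (hUJ : ⁅U, J⁆ = U) (z : Y) (hz : z ∈ U) (hfix : ∀ a ∈ J, a * z * a⁻¹ = z) : z = 1 := by
  classical
  let ψ : ↥J →* MulAut ↥U := (Subgroup.normalizerMonoidHom U).comp (Subgroup.inclusion hJU)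
  have hψ : ∀ (a : ↥J) (u : ↥U), ((ψ a) u : Y) = (a : Y) * (u : Y) * (a : Y)⁻¹ := by
    intro a u
    rfl
  let A : Subgroup (MulAut ↥U) := ψ.range
  have hcardA : Nat.card A ∣ Nat.card J := by
    have h1 : Function.Surjective ψ.rangeRestrict := ψ.rangeRestrict_surjective
    exact Subgroup.card_dvd_of_surjective ψ.rangeRestrict h1
  have hcopA : (Nat.card A).Coprime (Nat.card ↥U) :=
    Nat.Coprime.coprime_dvd_left hcardA hcop
  have hcomm : ∀ x y : ↥U, x * y = y * x := by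
    intro x y
    apply Subtype.ext
    exact hab x x.2 y y.2
  have hfixA : ∀ α ∈ A, α ⟨z, hz⟩ = ⟨z, hz⟩ := by
    rintro α ⟨a, rfl⟩
    apply Subtype.ext
    rw [hψ]
    exact hfix a a.2
  have hgen : ∀ x ∈ ⁅U, J⁆, x ∈ (Subgroup.closure (Cfsg.Agent.H90.commSet A)).map U.subtype := by
    have hle : ⁅U, J⁆ ≤ (Subgroup.closure (Cfsg.Agent.H90.commSet A)).map U.subtype := by
      rw [Subgroup.commutator_le]
      intro u hu a ha
      have hmem : ⁅u, a⁆ ∈ U := by
        have h1 : a * u⁻¹ * a⁻¹ ∈ U :=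
          (Subgroup.mem_normalizer_iff.mp (hJU ha) u⁻¹).mp (U.inv_mem hu)
        have h2 : ⁅u, a⁆ = u * (a * u⁻¹ * a⁻¹) := by
          rw [commutatorElement_def]; group
        rw [h2]
        exact U.mul_mem hu h1
      refine ⟨⟨⁅u, a⁆, hmem⟩, ?_, rfl⟩
      apply Subgroup.subset_closure
      refine ⟨ψ ⟨a, ha⟩, ⟨⟨a, ha⟩, rfl⟩, ⟨u⁻¹, U.inv_mem hu⟩, ?_⟩
      apply Subtype.ext
      rw [Subgroup.coe_mul, hψ]
      simp only [Subgroup.coe_inv, inv_inv]
      rw [commutatorElement_def]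
      group
    exact fun x hx => hle hx
  have hz' : (⟨z, hz⟩ : ↥U) ∈ Subgroup.closure (Cfsg.Agent.H90.commSet A) := by
    have h1 : z ∈ ⁅U, J⁆ := by rw [hUJ]; exact hz
    obtain ⟨w, hw, hwz⟩ := hgen z h1
    have : w = ⟨z, hz⟩ := Subtype.ext hwz
    rwa [this] at hw
  have h := Cfsg.Agent.H90.coprime_comm_fix_inter hcomm A hcopA ⟨z, hz⟩ hfixA hz'
  exact congrArg Subtype.val h

/-- TS-K1B. -/
theorem k1b : Cfsg.Agent.H74.Ts.StK1B.{u} := by
  intro X _ _ C Q J D hC hQ hQ2 hQC hodd hCJ hJ2 hCD h3 hJD hnot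
  classical
  have := hQ
  have := hC
  let π : X →* X ⧸ Q := QuotientGroup.mk' Q
  have hπs : Function.Surjective π := QuotientGroup.mk'_surjective Q
  have hker : π.ker = Q := QuotientGroup.ker_mk' Q
  have hbot : (⊥ : Subgroup (X ⧸ Q)).comap π = Q := (MonoidHom.comap_bot π).trans hker
  have hCbN : (C.map π).Normal := Subgroup.Normal.map hC π hπs
  have hCDb : C.map π ≤ D.map π := Subgroup.map_mono hCD
  have hcomapC : (C.map π).comap π = C := by
    rw [Subgroup.comap_map_eq, hker]; exact sup_eq_left.mpr hQC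
  have h3b : (C.map π).relIndex (D.map π) = 3 := by
    rw [← Subgroup.relIndex_comap, hcomapC]; exact h3
  have hcardD : Nat.card ↥(D.map π) = Q.relIndex C * 3 := by
    have h1 : (⊥ : Subgroup (X ⧸ Q)).relIndex (D.map π) = Nat.card ↥(D.map π) :=
      Subgroup.relIndex_bot_left _
    rw [← h1, ← Subgroup.relIndex_comap, hbot, ← h3, Subgroup.relIndex_mul_relIndex _ _ _ hQC hCD]
  have hoddD : Odd (Nat.card ↥(D.map π)) := by
    rw [hcardD]; exact hodd.mul (by decide)
  have hJb2 : IsPGroup 2 ↥(J.map π) := hJ2.map π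
  have hcop : (Nat.card ↥(J.map π)).Coprime (Nat.card ↥(D.map π)) := by
    obtain ⟨n, hn⟩ := (IsPGroup.iff_card (p := 2)).mp hJb2
    rw [hn]
    exact Nat.Coprime.pow_left n (Nat.coprime_two_left.mpr hoddD)
  have hJDb : J.map π ≤ Subgroup.normalizer ((D.map π : Subgroup (X ⧸ Q)) : Set (X ⧸ Q)) :=
    (Subgroup.map_mono hJD).trans (Subgroup.le_normalizer_map π)
  have hsolv : Group.IsSolvable ↥(J.map π) := by
    haveI : Fact (Nat.Prime 2) := ⟨Nat.prime_two⟩
    haveI := hJb2.isNilpotent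
    infer_instance
  obtain ⟨Ub, hUb⟩ : ∃ Ub : Subgroup (X ⧸ Q), Ub = ⁅D.map π, J.map π⁆ := ⟨_, rfl⟩
  have hUD : Ub ≤ D.map π := by
    rw [hUb]; exact Cfsg.Agent.H1.commutator_le_of_le_normalizer _ _ hJDb
  have hJU : J.map π ≤ Subgroup.normalizer (Ub : Set (X ⧸ Q)) := by
    rw [hUb]; exact Subgroup.normalizer_commutator_ge_right _ _
  have hUU : ⁅Ub, J.map π⁆ = Ub := by
    rw [hUb]
    exact Cfsg.Agent.H1.coprime_commutator_commutator _ _ hJDb hcop (Or.inl hsolv)
  have hCJb : ⁅C.map π, J.map π⁆ = ⊥ := by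
    rw [← Subgroup.map_commutator]
    exact (Subgroup.map_eq_bot_iff _).mpr (by rw [hker]; exact hCJ)
  have hUC : ⁅Ub, C.map π⁆ = ⊥ := by
    rw [hUb]
    apply Subgroup.commutator_commutator_eq_bot_of_rotate
    · rw [Subgroup.commutator_comm (J.map π) (C.map π), hCJb]
      exact Subgroup.commutator_bot_left _
    · rw [eq_bot_iff, ← hCJb]
      exact Subgroup.commutator_mono (Subgroup.commutator_le_left _ _) le_rfl
  have hUCe : ∀ u ∈ Ub, ∀ c ∈ C.map π, u * c = c * u := by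
    intro u hu c hc
    have h1 : ⁅u, c⁆ ∈ ⁅Ub, C.map π⁆ := Subgroup.commutator_mem_commutator hu hc
    rw [hUC, Subgroup.mem_bot] at h1
    exact (commutatorElement_eq_one_iff_commute.mp h1)
  have hCJe : ∀ c ∈ C.map π, ∀ a ∈ J.map π, a * c * a⁻¹ = c := by
    intro c hc a ha
    have h1 : ⁅c, a⁆ ∈ ⁅C.map π, J.map π⁆ := Subgroup.commutator_mem_commutator hc ha
    rw [hCJb, Subgroup.mem_bot] at h1
    have h2 : c * a = a * c := commutatorElement_eq_one_iff_commute.mp h1
    rw [← h2, mul_inv_cancel_right]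
  -- `Ub` is abelian
  have hab : ∀ x ∈ Ub, ∀ y ∈ Ub, x * y = y * x := by
    haveI : ((C.map π).subgroupOf (D.map π)).Normal := Subgroup.normal_subgroupOf
    let f : ↥Ub →* ↥(D.map π) ⧸ ((C.map π).subgroupOf (D.map π)) :=
      (QuotientGroup.mk' ((C.map π).subgroupOf (D.map π))).comp (Subgroup.inclusion hUD)
    have hcard : Nat.card (↥(D.map π) ⧸ ((C.map π).subgroupOf (D.map π))) = 3 := by
      rw [← Subgroup.index_eq_card]; exact h3b
    haveI : Fact (Nat.Prime 3) := ⟨Nat.prime_three⟩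
    haveI : IsCyclic (↥(D.map π) ⧸ ((C.map π).subgroupOf (D.map π))) :=
      isCyclic_of_prime_card hcard
    have hf : f.ker ≤ Subgroup.center ↥Ub := by
      intro x hx
      have h1 : (Subgroup.inclusion hUD x) ∈ (C.map π).subgroupOf (D.map π) := by
        have h2 : f x = 1 := hx
        exact (QuotientGroup.eq_one_iff _).mp h2
      have h3' : (x : X ⧸ Q) ∈ C.map π := h1
      rw [Subgroup.mem_center_iff]
      intro y
      apply Subtype.ext
      exact hUCe y y.2 x h3'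
    intro x hx y hy
    have h := commutative_of_cyclic_center_quotient f hf ⟨x, hx⟩ ⟨y, hy⟩
    exact congrArg Subtype.val h
  have hcopU : (Nat.card ↥(J.map π)).Coprime (Nat.card ↥Ub) :=
    Nat.Coprime.coprime_dvd_right (Subgroup.card_dvd_of_le hUD) hcop
  have hZ : Ub ⊓ C.map π = ⊥ := by
    rw [eq_bot_iff]
    intro z hz
    rw [Subgroup.mem_bot]
    exact fix_eq_one_of_abelian Ub (J.map π) hJU hab hcopU hUU z hz.1
      (fun a ha => hCJe z hz.2 a ha)
  have hUnotC : ¬ Ub ≤ C.map π := by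
    intro h
    apply hnot
    rw [hUb, ← Subgroup.map_commutator, Subgroup.map_le_map_iff, hker] at h
    exact h.trans (sup_le le_rfl hQC)
  have hcardU : Nat.card ↥Ub = 3 := by
    have h1 : (Ub ⊓ C.map π).relIndex Ub = Nat.card ↥Ub := by
      rw [hZ]; exact Subgroup.relIndex_bot_left _
    have h2 : (Ub ⊓ C.map π).relIndex Ub = (C.map π).relIndex Ub := Subgroup.inf_relIndex_left _ _
    have hn : Ub ≤ Subgroup.normalizer ((C.map π : Subgroup (X ⧸ Q)) : Set (X ⧸ Q)) := by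
      rw [Subgroup.normalizer_eq_top]; exact le_top
    have h4 : (C.map π).relIndex (Ub ⊔ C.map π) = (C.map π).relIndex Ub :=
      Cfsg.Agent.H1.relIndex_sup_of_le_normalizer Ub (C.map π) hn
    have h5 : (C.map π).relIndex (Ub ⊔ C.map π) * (Ub ⊔ C.map π).relIndex (D.map π) = 3 := by
      rw [Subgroup.relIndex_mul_relIndex _ _ _ le_sup_right (sup_le hUD hCDb)]; exact h3b
    have h6 : (C.map π).relIndex Ub ∣ 3 := by
      rw [← h4]; exact Dvd.intro _ h5
    rcases (Nat.dvd_prime Nat.prime_three).mp h6 with h7 | h7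
    · exact absurd (Subgroup.relIndex_eq_one.mp h7) hUnotC
    · rw [← h1, h2, h7]
  have hmapU : (Ub.comap π).map π = Ub := Subgroup.map_comap_eq_self_of_surjective hπs Ub
  refine ⟨Ub.comap π, ?_, ?_, ?_, ?_, ?_⟩
  · exact (le_of_eq hker.symm).trans (MonoidHom.ker_le_comap π Ub)
  · have h1 := Subgroup.relIndex_comap (H := (⊥ : Subgroup (X ⧸ Q))) π (Ub.comap π)
    rw [hbot, hmapU, Subgroup.relIndex_bot_left] at h1
    rw [h1]
    exact hcardU
  · exact (Subgroup.map_le_iff_le_comap.mp hJU).trans (Subgroup.le_normalizer_comap π)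
  · have h1 : (⁅Ub.comap π, J⁆).map π = Ub := by
      rw [Subgroup.map_commutator, hmapU, hUU]
    have h2 := Subgroup.comap_map_eq π ⁅Ub.comap π, J⁆
    rw [h1, hker] at h2
    exact h2.symm
  · intro h
    apply hUnotC
    rw [← hmapU]
    exact Subgroup.map_mono h

example : Cfsg.Agent.H74.Ts.StK1B.{u} := k1b

end Cfsg.Agent.H48.Ts
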